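import Groth.Agent.Lib.RHomO20.Main
import Groth.Agent.Lib.CohDer19.DerAdj

/-!
# The right adjoint of `Ri_*` on bounded below `D_QCoh` is `R Hom(O_Z, -)`
-/

set_option autoImplicit false
set_option maxHeartbeats 1000000
set_option linter.style.haveILetI false
set_option linter.unusedSectionVars false
set_option backward.isDefEq.respectTransparency false

universe w w' v v' u u'

open CategoryTheory CategoryTheory.Limits

namespace GrothLib.RHomO20

section Abstract

variable {A : Type u} [Category.{v} A] [Abelian A] [IsGrothendieckAbelian.{v} A] [HasDerivedCategory.{w} A]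
  {B : Type u'} [Category.{v'} B] [Abelian B] [IsGrothendieckAbelian.{v'} B] [HasDerivedCategory.{w'} B]
  [EnoughInjectives A] [EnoughInjectives B]
  {L : A ⥤ B} {R : B ⥤ A} (adj : L ⊣ R) [L.Additive] [R.Additive]
  [PreservesFiniteLimits L] [PreservesFiniteColimits L]

theorem isGE_mapDerived (X : DerivedCategory A) (a : ℤ) [X.IsGE a] :
    (L.mapDerivedCategory.obj X).IsGE a := by
  obtain ⟨M, hM, -, ⟨e⟩⟩ := exists_kInjective_rep X a
  haveI := hM
  exact @CategoryTheory.Triangulated.TStructure.isGE_of_iso _ _ _ _ _ _ _ DerivedCategory.TStructure.t _ _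
    ((L.mapDerivedCategoryFactors.app M).symm ≪≫ L.mapDerivedCategory.mapIso e) a
    (inferInstanceAs ((DerivedCategory.Q.obj ((L.mapHomologicalComplex (ComplexShape.up ℤ)).obj M)).IsGE a))

include adj in
/-- The unbounded derived functor computes the bounded below one. -/
theorem nonempty_plus_iso :
    Nonempty (R.rightDerivedFunctorPlus ⋙ DerivedCategory.Plus.ι ≅ DerivedCategory.Plus.ι ⋙ Φ R) := by
  let WA := HomotopyCategory.Plus.quasiIso A
  let P : DerivedCategory.Plus A ⥤ DerivedCategory.Plus B :=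
    ObjectProperty.lift _ (DerivedCategory.Plus.ι ⋙ L.mapDerivedCategory) fun K =>
      let ⟨a, ha⟩ := K.property
      ⟨a, haveI := ha; isGE_mapDerived (L := L) K.obj a⟩
  let S : DerivedCategory.Plus B ⥤ DerivedCategory.Plus A :=
    ObjectProperty.lift _ (DerivedCategory.Plus.ι ⋙ Φ R) fun K =>
      let ⟨a, ha⟩ := K.property
      ⟨a, haveI := ha; isGE_Φ R K.obj a⟩
  obtain ⟨adjD⟩ := CohDer19.DerAdj.nonempty_adj_res adj
  let adj' : P ⊣ S := adjD.restrictFullyFaithful
    (DerivedCategory.TStructure.t (C := A)).plus.fullyFaithfulι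
    (DerivedCategory.TStructure.t (C := B)).plus.fullyFaithfulι (Iso.refl _) (Iso.refl _)
  obtain ⟨adjP⟩ := CohDer19.DerAdj.nonempty_adj_plus adj
  let c : DerivedCategory.Plus.Qh ⋙ P ≅ L.mapHomotopyCategoryPlus ⋙ DerivedCategory.Plus.Qh :=
    ((DerivedCategory.TStructure.t (C := B)).plus.fullyFaithfulι.whiskeringRight _).preimageIso
      (Functor.isoWhiskerLeft (HomotopyCategory.Plus.ι A) L.mapDerivedCategoryFactorsh)
  have hinv : WA.IsInvertedBy (L.mapHomotopyCategoryPlus ⋙ DerivedCategory.Plus.Qh) := fun K K' f hf => by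
    haveI : IsIso (DerivedCategory.Plus.Qh.map f) := Localization.inverts DerivedCategory.Plus.Qh WA f hf
    exact (NatIso.isIso_map_iff c f).1 (inferInstanceAs (IsIso (P.map (DerivedCategory.Plus.Qh.map f))))
  haveI := Functor.isIso_of_isRightDerivedFunctor_of_inverts L.rightDerivedFunctorPlus
    L.rightDerivedFunctorPlusUnit hinv
  letI : Localization.Lifting DerivedCategory.Plus.Qh WA (DerivedCategory.Plus.Qh ⋙ P) P := ⟨Iso.refl _⟩
  letI : Localization.Lifting DerivedCategory.Plus.Qh WA
      (DerivedCategory.Plus.Qh ⋙ L.rightDerivedFunctorPlus) L.rightDerivedFunctorPlus := ⟨Iso.refl _⟩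
  let e : P ≅ L.rightDerivedFunctorPlus :=
    Localization.liftNatIso DerivedCategory.Plus.Qh WA (DerivedCategory.Plus.Qh ⋙ P)
      (DerivedCategory.Plus.Qh ⋙ L.rightDerivedFunctorPlus) P L.rightDerivedFunctorPlus
      (c ≪≫ asIso L.rightDerivedFunctorPlusUnit)
  exact ⟨Functor.isoWhiskerRight ((adjP.ofNatIsoLeft e.symm).rightAdjointUniq adj') DerivedCategory.Plus.ι⟩

end Abstract

section Transpose

variable {D : Type u} [Category.{v} D] {D' : Type u'} [Category.{v'} D'] (P : ObjectProperty D)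
  (P' : ObjectProperty D') {F : D ⥤ D'} {G : D' ⥤ D} (adjD : F ⊣ G) (hF : ∀ K, P K → P' (F.obj K))

include adjD in
/-- Restricted right adjoints agree with the ambient one where it lands in the subcategory. -/
theorem nonempty_restricted_iso {a : P'.FullSubcategory ⥤ P.FullSubcategory}
    (adjQ : ObjectProperty.lift P' (ObjectProperty.ι P ⋙ F) (fun K => hF _ K.property) ⊣ a)
    {E : Type*} [Category E] (J : E ⥤ P'.FullSubcategory) (hG : ∀ K : E, P (G.obj (J.obj K).obj)) :
    Nonempty (J ⋙ a ⋙ ObjectProperty.ι P ≅ J ⋙ ObjectProperty.ι P' ⋙ G) := by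
  let θ : ∀ K : E, (a.obj (J.obj K)).obj ⟶ G.obj (J.obj K).obj := fun K =>
    adjD.homEquiv _ _ (adjQ.counit.app (J.obj K)).hom
  have hnat : ∀ {K K' : E} (f : K ⟶ K'), (a.map (J.map f)).hom ≫ θ K' = θ K ≫ G.map (J.map f).hom :=
    fun {K K'} f => by
      simp only [θ, ← adjD.homEquiv_naturality_left, ← adjD.homEquiv_naturality_right]
      exact congrArg (adjD.homEquiv _ _) (congrArg InducedCategory.Hom.hom (adjQ.counit.naturality (J.map f)))
  have hiso : ∀ K : E, IsIso (θ K) := fun K => by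
    let g : P.FullSubcategory := ⟨G.obj (J.obj K).obj, hG K⟩
    let χ : g ⟶ a.obj (J.obj K) :=
      adjQ.homEquiv g (J.obj K) (ObjectProperty.homMk (adjD.counit.app (J.obj K).obj))
    have key : ∀ {Y : P.FullSubcategory} (φ : Y ⟶ a.obj (J.obj K)),
        φ.hom ≫ θ K = adjD.homEquiv _ _ ((adjQ.homEquiv Y (J.obj K)).symm φ).hom := fun {Y} φ => by
      simp only [θ, ← adjD.homEquiv_naturality_left]
      rw [Adjunction.homEquiv_counit]
      rfl
    have h1 : χ.hom ≫ θ K = 𝟙 _ := by
      rw [key χ, Equiv.symm_apply_apply]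
      exact (adjD.homEquiv_unit _ _ _).trans (adjD.right_triangle_components _)
    refine ⟨χ.hom, ?_, h1⟩
    let θ' : a.obj (J.obj K) ⟶ g := ObjectProperty.homMk (θ K)
    have h2 : θ' ≫ χ = 𝟙 _ := by
      refine (adjQ.homEquiv _ _).symm.injective (ObjectProperty.hom_ext _ ((adjD.homEquiv _ _).injective ?_))
      rw [← key, ← key]
      simp only [ObjectProperty.FullSubcategory.comp_hom, ObjectProperty.FullSubcategory.id_hom,
        Category.assoc, h1]
      exact (Category.comp_id _).trans (Category.id_comp _).symm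
    exact congrArg InducedCategory.Hom.hom h2
  exact ⟨NatIso.ofComponents (fun K => @asIso _ _ _ _ (θ K) (hiso K)) hnat⟩

end Transpose

end GrothLib.RHomO20

namespace GrothLib.RHomO20

open AlgebraicGeometry

attribute [local instance] HasDerivedCategory.standard

universe u₀

theorem nonempty_bdd_iso {Z X : Scheme.{u₀}} [IsNoetherian X] (i : Z ⟶ X) [IsClosedImmersion i]
    [Dual3.HasHomO i] [EnoughInjectives X.Modules] [DCoh.HasRpush i] (hf : DCoh.RpushPreservesQCoh i)
    (a : DCoh.DQCoh X ⥤ DCoh.DQCoh Z) (adjQ : DCoh.RpushQ i hf ⊣ a) :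
    Nonempty (Dual3.bddι X ⋙ a ⋙ ObjectProperty.ι _ ≅ Dual3.bddToPlus X ⋙ Dual3.RHomOPlus i ⋙
      (DerivedCategory.Plus.ι : DerivedCategory.Plus Z.Modules ⥤ DCoh.D Z)) := by
  haveI : (Scheme.Modules.pushforward i).Additive :=
    (Scheme.Modules.pullbackPushforwardAdjunction i).right_adjoint_additive
  haveI : Limits.PreservesLimitsOfSize.{0, 0} (Scheme.Modules.pushforward i) :=
    (Scheme.Modules.pullbackPushforwardAdjunction i).rightAdjoint_preservesLimits
  haveI : Limits.PreservesFiniteLimits (Scheme.Modules.pushforward i) :=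
    Limits.PreservesLimitsOfSize.preservesFiniteLimits.{0, 0} _
  haveI : Limits.PreservesColimitsOfSize.{0, 0} (Scheme.Modules.pushforward i) :=
    (Dual3.homOAdj i).leftAdjoint_preservesColimits
  haveI : Limits.PreservesFiniteColimits (Scheme.Modules.pushforward i) :=
    Limits.PreservesColimitsOfSize.preservesFiniteColimits.{0, 0} _
  haveI : HasInjectiveResolutions X.Modules := inferInstance
  obtain ⟨adjD⟩ := CohDer19.DerAdj.nonempty_adj_res (Dual3.homOAdj i)
  obtain ⟨p⟩ := nonempty_plus_iso (Dual3.homOAdj i)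
  let n : (Scheme.Modules.pushforward i).mapDerivedCategory ≅ DCoh.Rpush i :=
    (Functor.leftUnitor _).symm ≪≫
      Functor.isoWhiskerRight (asIso (KInj.resAdj Z.Modules).counit).symm _ ≪≫ Functor.associator _ _ _ ≪≫
      Functor.isoWhiskerLeft (KInj.res Z.Modules) (Scheme.Modules.pushforward i).mapDerivedCategoryFactorsh ≪≫
      (OX.rpushIsoRres i).symm
  have hG : ∀ K : (Dual3.IsBddBelowQ X).FullSubcategory,
      DCoh.IsQCohD ((Φ (Dual3.homO i)).obj ((Dual3.bddι X).obj K).obj) := fun K => by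
    obtain ⟨c, hc⟩ := K.property
    haveI := hc
    exact cohIn_Φ (Dual3.homO i) (OX.qcohP X) (OX.qcohP Z)
      (fun M hM q => isQCoh_rightDerived_homO i hM q) K.obj.obj c K.obj.property
  obtain ⟨e⟩ := nonempty_restricted_iso DCoh.IsQCohD DCoh.IsQCohD (adjD.ofNatIsoLeft n) hf adjQ
    (Dual3.bddι X) hG
  exact ⟨e ≪≫ Functor.isoWhiskerLeft (Dual3.bddToPlus X) p.symm⟩

end GrothLib.RHomO20
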