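import Groth.Agent.Lib.ChangeRings20.Basic
import Groth.Agent.Lib.ExtTilde20.Coh
import Groth.Agent.Lib.OX.RpushQCoh
import Groth.Agent.Lib.OX.CohClass
import Groth.Agent.Lib.HomSh.Coherent
import Groth.Agent.Lib.QCoh.ClosedImmersion
import Groth.Agent.Lib.QCoh.Coherent
import Groth.Agent.Lib.SiteDer.PushCoh
import Groth.Agent.Lib.PlusComp19.Basic
import Groth.Agent.Lib.CohDer19.InjAmp
import Groth.Prelude.Def_Dual3

/-!
# `R Hom(O_Z, -)` preserves quasi-coherence and coherence
-/

set_option autoImplicit false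
set_option maxHeartbeats 1000000
set_option linter.style.haveILetI false
set_option linter.unusedSectionVars false
set_option backward.isDefEq.respectTransparency false

universe w w' v v' u u'

open CategoryTheory CategoryTheory.Limits

namespace GrothLib.RHomO20

section Abstract

variable {A : Type u} [Category.{v} A] [Abelian A] [IsGrothendieckAbelian.{v} A]
  [HasDerivedCategory.{w} A] {B : Type u'} [Category.{v'} B] [Abelian B] [HasDerivedCategory.{w'} B]
  (G : A ⥤ B) [G.Additive]

/-- The derived functor through K-injective resolutions. -/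
noncomputable abbrev Φ : DerivedCategory A ⥤ DerivedCategory B :=
  KInj.res A ⋙ G.mapHomotopyCategory (ComplexShape.up ℤ) ⋙ DerivedCategory.Qh

/-- Its value on a K-injective complex. -/
theorem nonempty_Φ_Q (M : CochainComplex A ℤ) [M.IsKInjective] :
    Nonempty ((Φ G).obj (DerivedCategory.Q.obj M) ≅
      DerivedCategory.Q.obj ((G.mapHomologicalComplex (ComplexShape.up ℤ)).obj M)) := by
  let I := (HomotopyCategory.quotient A (ComplexShape.up ℤ)).obj M
  have hI : (HomotopyCategory.subcategoryAcyclic A).rightOrthogonal I :=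
    CochainComplex.IsKInjective.rightOrthogonal M
  have := KInj.isIso_unit_of_rightOrthogonal hI
  exact ⟨(Φ G).mapIso ((DerivedCategory.quotientCompQhIso A).app M).symm ≪≫
    (G.mapHomotopyCategory (ComplexShape.up ℤ) ⋙ DerivedCategory.Qh).mapIso
      (asIso ((KInj.resAdj A).unit.app I)).symm ≪≫
    (DerivedCategory.quotientCompQhIso B).app ((G.mapHomologicalComplex (ComplexShape.up ℤ)).obj M)⟩

theorem exists_kInjective_rep [EnoughInjectives A] (X : DerivedCategory A) (a : ℤ) [X.IsGE a] :
    ∃ M : CochainComplex A ℤ, M.IsStrictlyGE a ∧ M.IsKInjective ∧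
      Nonempty (DerivedCategory.Q.obj M ≅ X) := by
  obtain ⟨M, hM, hinj, e⟩ := CohDer19.InjAmp.exists_injective_rep X a
  haveI := hM
  haveI : ∀ n, Injective (M.X n) := hinj
  exact ⟨M, hM, CochainComplex.isKInjective_of_injective M a, e⟩

theorem isGE_Φ [EnoughInjectives A] (X : DerivedCategory A) (a : ℤ) [X.IsGE a] :
    ((Φ G).obj X).IsGE a := by
  obtain ⟨M, hM, hK, ⟨e⟩⟩ := exists_kInjective_rep X a
  haveI := hM
  haveI := hK
  obtain ⟨φ⟩ := nonempty_Φ_Q G M
  exact DerivedCategory.TStructure.t.isGE_of_iso (φ.symm ≪≫ (Φ G).mapIso e) a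

theorem cohIn_Φ [EnoughInjectives A] [HasInjectiveResolutions A] (P : ObjectProperty A) [WSerre.IsWeakSerre P]
    (Q : ObjectProperty B) [WSerre.IsWeakSerre Q]
    (h : ∀ M, P M → ∀ p : ℕ, Q ((G.rightDerived p).obj M))
    (X : DerivedCategory A) (a : ℤ) [X.IsGE a] (hX : WSerre.cohIn P X) :
    WSerre.cohIn Q ((Φ G).obj X) := by
  haveI : (Φ G).IsTriangulated := SiteDer.isTriangulated_res_map G
  refine DerTrunc.cohIn_map_of_isGE P Q (fun X n _ => isGE_Φ G X n) (fun M hM i => ?_) X a hX
  by_cases h0 : 0 ≤ i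
  · obtain ⟨p, rfl⟩ := Int.eq_ofNat_of_zero_le h0
    let R := InjectiveResolution.of M
    haveI : IsIso (DerivedCategory.Q.map R.ι') := by
      rw [DerivedCategory.isIso_Q_map_iff_quasiIso]; infer_instance
    obtain ⟨φ⟩ := nonempty_Φ_Q G R.cochainComplex
    exact Q.prop_of_iso ((DerivedCategory.homologyFunctor _ (p : ℤ)).mapIso
      ((Φ G).mapIso (asIso (DerivedCategory.Q.map R.ι')) ≪≫ φ) ≪≫
      (DerivedCategory.homologyFunctorFactors _ (p : ℤ)).app _ ≪≫
      DerTrunc.rightDerivedExtendIso G R p).symm (h M hM p)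
  · have := isGE_Φ G ((DerivedCategory.singleFunctor A 0).obj M) 0
    exact Q.prop_of_isZero (DerivedCategory.isZero_of_isGE _ 0 i (by omega))

/-- The bounded below derived functor preserves cohomological conditions. -/
theorem cohIn_rightDerivedFunctorPlus [EnoughInjectives A] [HasInjectiveResolutions A] (P : ObjectProperty A)
    [WSerre.IsWeakSerre P] (Q : ObjectProperty B) [WSerre.IsWeakSerre Q]
    (h : ∀ M, P M → ∀ p : ℕ, Q ((G.rightDerived p).obj M))
    (K : DerivedCategory.Plus A) (hK : WSerre.cohIn P K.obj) :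
    WSerre.cohIn Q (G.rightDerivedFunctorPlus.obj K).obj := by
  obtain ⟨a, ha⟩ := K.property
  haveI := ha
  obtain ⟨M, hM, ⟨e⟩⟩ := PlusComp19.exists_injective_rep K
  obtain ⟨b, hb⟩ := M.property
  haveI := hb
  haveI : ∀ n, Injective (M.obj.X n) := hM
  haveI : M.obj.IsKInjective := CochainComplex.isKInjective_of_injective M.obj b
  haveI := CohDer19.isIso_unit_of_injective G M hM
  obtain ⟨φ⟩ := nonempty_Φ_Q G M.obj
  let e' : DerivedCategory.Q.obj M.obj ≅ K.obj :=
    ((DerivedCategory.quotientCompQhIso A).app M.obj).symm ≪≫ DerivedCategory.Plus.ι.mapIso e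
  let eL : DerivedCategory.Q.obj ((G.mapHomologicalComplex (ComplexShape.up ℤ)).obj M.obj) ≅
      (G.rightDerivedFunctorPlus.obj K).obj :=
    ((DerivedCategory.quotientCompQhIso B).app _).symm ≪≫
      DerivedCategory.Plus.ι.mapIso (asIso (G.rightDerivedFunctorPlusUnit.app
        ((HomotopyCategory.Plus.quotient A).obj M)) ≪≫ G.rightDerivedFunctorPlus.mapIso e)
  exact DerTrunc.cohIn_of_iso Q ((Φ G).mapIso e'.symm ≪≫ φ ≪≫ eL) (cohIn_Φ G P Q h K.obj a hK)

end Abstract

end GrothLib.RHomO20

namespace GrothLib.RHomO20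

open AlgebraicGeometry

universe u₀

variable {Z X : Scheme.{u₀}} (i : Z ⟶ X) [IsClosedImmersion i] [Dual3.HasHomO i]

/-- `i_* Hom(O_Z, -) = ℋom(i_* O_Z, -)`. -/
noncomputable def homOPushIso
    [ModSite.HasSheafHom (O := X.sheaf) ((Scheme.Modules.pushforward i).obj (Coh.structureModule Z))] :
    Dual3.homO i ⋙ Scheme.Modules.pushforward i ≅
      (ModSite.sheafHom (O := X.sheaf) ((Scheme.Modules.pushforward i).obj (Coh.structureModule Z)) :
        X.Modules ⥤ X.Modules) :=
  (((Scheme.Modules.pullbackPushforwardAdjunction i).comp (Dual3.homOAdj i)).ofNatIsoLeft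
    (Functor.isoWhiskerLeft (Scheme.Modules.pullback i)
      ((Functor.leftUnitor _).symm ≪≫ Functor.isoWhiskerRight
        ((OX.tensorBraiding (X := Z)).app (Coh.structureModule Z) ≪≫ OX.tensorUnitNatIso).symm
        (Scheme.Modules.pushforward i)) ≪≫
      (ChangeRings20.projIso i (Coh.structureModule Z)).symm)).rightAdjointUniq
    (ModSite.sheafHomAdj (O := X.sheaf) ((Scheme.Modules.pushforward i).obj (Coh.structureModule Z)))

theorem isCoh_push_structure :
    Coh.IsCoh ((Scheme.Modules.pushforward i).obj (Coh.structureModule Z)) := by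
  haveI := (HomSh.isCoh_structureModule Z).1
  exact ⟨QCoh.isQuasicoherent_pushforward i _,
    QCoh.isFiniteType_pushforward i _ (HomSh.isCoh_structureModule Z).2⟩

theorem nonempty_push_rightDerived [HasInjectiveResolutions X.Modules]
    [HasInjectiveResolutions (ModSite.Mod X.sheaf)]
    [ModSite.HasSheafHom (O := X.sheaf) ((Scheme.Modules.pushforward i).obj (Coh.structureModule Z))]
    (M : X.Modules) (p : ℕ) :
    Nonempty ((Scheme.Modules.pushforward i).obj (((Dual3.homO i).rightDerived p).obj M) ≅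
      (ModSite.extSh (O := X.sheaf) ((Scheme.Modules.pushforward i).obj (Coh.structureModule Z)) p).obj M) := by
  haveI : (Scheme.Modules.pushforward i).Additive :=
    (Scheme.Modules.pullbackPushforwardAdjunction i).right_adjoint_additive
  haveI := OX.preservesHomology_pushforward i
  haveI hadd : (ModSite.sheafHom (O := X.sheaf)
      ((Scheme.Modules.pushforward i).obj (Coh.structureModule Z))).Additive :=
    HomRestrict20.additive_sheafHom _
  haveI : (ModSite.sheafHom (O := X.sheaf) ((Scheme.Modules.pushforward i).obj (Coh.structureModule Z)) :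
      X.Modules ⥤ X.Modules).Additive := hadd
  exact ⟨(ModSupp25.rightDerivedPostIso (Dual3.homO i) (Scheme.Modules.pushforward i) p).app M ≪≫
    (SheafCoh.rightDerivedCongr (homOPushIso i) p).app M⟩

variable [IsLocallyNoetherian X] [HasInjectiveResolutions X.Modules]

theorem isQCoh_rightDerived_homO {M : X.Modules} (hM : Coh.IsQCoh M) (p : ℕ) :
    Coh.IsQCoh (((Dual3.homO i).rightDerived p).obj M) := by
  haveI : HasInjectiveResolutions (ModSite.Mod X.sheaf) := ‹_›
  haveI : ModSite.HasSheafHom (O := X.sheaf) ((Scheme.Modules.pushforward i).obj (Coh.structureModule Z)) :=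
    SheafCoh.hasSheafHom X.sheaf _
  obtain ⟨e⟩ := nonempty_push_rightDerived i M p
  have h := ExtTilde20.isQCoh_extSh _ M (isCoh_push_structure i) hM p
  haveI : ((Scheme.Modules.pushforward i).obj (((Dual3.homO i).rightDerived p).obj M)).IsQuasicoherent :=
    OX.isQCoh_of_iso e.symm h
  exact QCoh.isQuasicoherent_of_pushforward i _

theorem isCoh_rightDerived_homO {M : X.Modules} (hM : Coh.IsCoh M) (p : ℕ) :
    Coh.IsCoh (((Dual3.homO i).rightDerived p).obj M) := by
  haveI : HasInjectiveResolutions (ModSite.Mod X.sheaf) := ‹_›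
  haveI : ModSite.HasSheafHom (O := X.sheaf) ((Scheme.Modules.pushforward i).obj (Coh.structureModule Z)) :=
    SheafCoh.hasSheafHom X.sheaf _
  obtain ⟨e⟩ := nonempty_push_rightDerived i M p
  exact QCoh.isCoh_of_pushforward i _
    (QCoh.isCoh_of_iso e.symm (ExtTilde20.isCoh_extSh _ M (isCoh_push_structure i) hM p))

end GrothLib.RHomO20
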